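import Cfsg.Agent.U45.Defs

/-!
# The distribution of the `p`-elements from the principal `r`-block
-/

set_option autoImplicit false

namespace Cfsg.Agent.U45

open Subgroup Cfsg.Agent.Char Cfsg.Agent.Zass Cfsg.Agent.M11 Cfsg.Agent.Small Cfsg.Agent.Block
  Cfsg.Agent.PSL2Rec

theorem isP_sub_one_pp {p : ℕ} [hp : Fact p.Prime] (k : ℕ) :
    ∀ {x : ℂ}, x ^ p ^ k = 1 → IsP p (x - 1) := by
  induction k with
  | zero => intro x h; rw [pow_zero, pow_one] at h; simpa [h] using (isP_zero (p := p))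
  | succ k ih =>
    intro x h
    have hx : x ∈ vO p := isO_iff.1 (isO_of_pow_eq_one (pow_ne_zero _ hp.out.ne_zero) h)
    have h0 : IsP p (x ^ p - 1) := ih (by rw [← pow_mul, ← pow_succ', h])
    obtain ⟨r, hr⟩ := exists_add_pow_prime_eq hp.out ((⟨x, hx⟩ : vO p) - 1) 1
    have h1 := congrArg Subtype.val hr
    simp only [sub_add_cancel, SubmonoidClass.mk_pow, one_pow, mul_one] at h1
    push_cast at h1
    apply IsP.of_pow (n := p)
    have h2 : (x - 1) ^ p = (x ^ p - 1) - p * ((x - 1) * r) := by linear_combination -h1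
    rw [h2]
    exact h0.sub (isP_prime.mul_right (((isO_iff.2 hx).sub isO_one).mul (isO_iff.2 r.2)))

variable {G : Type*} [Group G] [Finite G]

theorem dvd_sub_of_pe {p : ℕ} (hp : p.Prime) {χ : G → ℤ} (hχ : IsCharacter G fun g => (χ g : ℂ))
    {u : G} (hu : PE p u) : (p : ℤ) ∣ χ u - χ 1 := by
  have := Fact.mk hp
  obtain ⟨k, hk⟩ := hu
  obtain ⟨s, h1, h2, h3⟩ := char_exists_roots hχ u
  have h4 := h3 1
  simp only [zpow_one, Multiset.map_id'] at h4
  have h5 : ∀ t : Multiset ℂ, (∀ z ∈ t, z ^ p ^ k = 1) → IsP p (t.sum - t.card) := by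
    intro t
    induction t using Multiset.induction_on with
    | empty => intro _; simpa using (isP_zero (p := p))
    | cons a t ih =>
      intro h
      have e : (a ::ₘ t).sum - ((a ::ₘ t).card : ℂ) = (a - 1) + (t.sum - t.card) := by
        simp only [Multiset.sum_cons, Multiset.card_cons]; push_cast; ring
      rw [e]
      exact (isP_sub_one_pp k (h a (Multiset.mem_cons_self _ _))).add
        (ih fun z hz => h z (Multiset.mem_cons_of_mem hz))
  have h6 := h5 s fun z hz => by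
    obtain ⟨c, hc⟩ := orderOf_dvd_of_pow_eq_one hk
    rw [hc, pow_mul, h1 z hz, one_pow]
  rw [← h4, h2, ← Int.cast_sub] at h6
  rw [← Int.dvd_natAbs, Int.natCast_dvd_natCast, ← isP_natCast_iff]
  generalize χ u - χ 1 = z at h6 ⊢
  obtain ⟨n, rfl | rfl⟩ := z.eq_nat_or_neg
  · simpa using h6
  · simpa using h6.neg

theorem integral_avg {ψ : G → ℂ} (hψ : IsCharacter G ψ) (D : Subgroup G) [Fintype D] {u : G}
    (hu : ∀ y ∈ D, Commute u y) : IsIntegral ℤ ((Nat.card D : ℂ)⁻¹ * ∑ y : D, ψ (u * y)) := by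
  classical
  have := Fintype.ofFinite (zpowers u)
  let f : zpowers u × D →* G := MonoidHom.noncommCoprod (zpowers u).subtype D.subtype
    fun a y => by
      obtain ⟨a, k, rfl⟩ := a
      exact (hu y y.2).zpow_left k
  have hF : IsCharacter (zpowers u) fun a => (Nat.card D : ℂ)⁻¹ * ∑ y : D, ψ (a * y) := by
    refine isCharacter_of_inner (fun a b => by
      rw [IsMulCommutative.is_comm.comm b a, mul_inv_cancel_right]) fun l hl => ?_
    obtain ⟨n, hn⟩ := inner_char_char (char_comp hψ f)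
      (char_comp (irr_isCharacter hl) (MonoidHom.fst (zpowers u) D))
    refine ⟨n, ?_⟩
    rw [← hn, classInner, classInner, Fintype.sum_prod_type, Nat.card_prod, Nat.cast_mul, mul_inv,
      mul_assoc, Finset.mul_sum (a := (Nat.card D : ℂ)⁻¹)]
    congr 1
    refine Finset.sum_congr rfl fun a _ => ?_
    rw [mul_assoc, Finset.sum_mul]
    rfl
  exact char_isIntegral hF ⟨u, mem_zpowers u⟩

theorem card_dvd_of_vanish {ψ : G → ℂ} (hψ : IsCharacter G ψ) (D : Subgroup G) {u : G}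
    (hu : ∀ y ∈ D, Commute u y) (h0 : ∀ y ∈ D, y ≠ 1 → ψ (u * y) = 0) {z : ℤ} (hz : ψ u = z) :
    (Nat.card D : ℤ) ∣ z := by
  classical
  have := Fintype.ofFinite D
  have h := integral_avg hψ D hu
  rw [Finset.sum_eq_single (1 : D) (fun y _ hy => h0 y y.2 fun e => hy (Subtype.ext e)) (by simp),
    OneMemClass.coe_one, mul_one, hz] at h
  have hc : (Nat.card D : ℚ) ≠ 0 := Nat.cast_ne_zero.2 Nat.card_pos.ne'
  have h1 : IsIntegral ℤ (algebraMap ℚ ℂ ((Nat.card D : ℚ)⁻¹ * z)) := by simpa using h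
  rw [isIntegral_algebraMap_iff (algebraMap ℚ ℂ).injective] at h1
  obtain ⟨w, hw⟩ := IsIntegrallyClosed.algebraMap_eq_of_integral h1
  refine ⟨w, ?_⟩
  have h2 : (z : ℚ) = Nat.card D * w := by
    rw [show (w : ℚ) = _ from hw, mul_inv_cancel_left₀ hc]
  exact_mod_cast h2

theorem sum_int [Fintype G] {a b : G → ℤ} (ha : IsIrrCharacter G fun g => (a g : ℂ))
    (hb : IsIrrCharacter G fun g => (b g : ℂ)) :
    (a 1 ≠ b 1 → ∑ g, a g * b g = 0) ∧ (a = b → ∑ g, a g * b g = Nat.card G) := by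
  have hc := card_ne_zero' G
  have e : classInner (fun g => (a g : ℂ)) (fun g => (b g : ℂ)) =
      (Nat.card G : ℂ)⁻¹ * ((∑ g, a g * b g : ℤ) : ℂ) := by
    simp [classInner]
  refine ⟨fun h => ?_, fun h => ?_⟩
  · rw [inner_irr_ne ha hb fun e => h (by exact_mod_cast congrFun e 1)] at e
    exact_mod_cast (mul_eq_zero.1 e.symm).resolve_left (inv_ne_zero hc)
  · subst h
    rw [inner_irr_self ha, eq_comm, inv_mul_eq_one₀ hc] at e
    exact_mod_cast e.symm

/-- the finite check -/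
def chk (N r d1 d2 d3 q : ℕ) (a : ℤ) : Bool :=
  let K := (N * cm d1 d2 d3 a 0 a 0).toNat
  0 < K && K < 6600 * 6600 * (d1 * d2 * d3) && (List.range 6600).all fun c =>
    K % (c * c * (d1 * d2 * d3)) != 0 || N % (c * r) != 0 ||
      (if a = 0 then q ^ 2 % c == 0 else c * (d3 * (d2 - d1)) < N * ((a - 1) * a).toNat)

theorem of_chk {N r d1 d2 d3 q : ℕ} {a : ℤ} (h : chk N r d1 d2 d3 q a = true) {c n m : ℕ}
    (h1 : c * n = N) (h2 : c * r ∣ N)
    (h3 : (m : ℤ) * (c * c) * (d1 * d2 * d3) = N * cm d1 d2 d3 a 0 a 0)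
    (h4 : n * ((a - 1) * a) ≤ (d3 * (d2 - d1) : ℕ)) : a = 0 ∧ c ∣ q ^ 2 := by
  have hK : (N * cm d1 d2 d3 a 0 a 0).toNat = m * (c * c * (d1 * d2 * d3)) := by
    rw [← h3, ← Int.toNat_natCast (m * _)]; push_cast; rw [mul_assoc]
  simp only [chk, hK, Bool.and_eq_true, decide_eq_true_eq, List.all_eq_true, List.mem_range,
    Bool.or_eq_true, bne_iff_ne] at h
  obtain ⟨⟨k1, k2⟩, k3⟩ := h
  have hm : 0 < m := Nat.pos_of_mul_pos_right k1
  have hc : c < 6600 := by
    by_contra hc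
    have := Nat.mul_le_mul hm (Nat.mul_le_mul_right (d1 * d2 * d3)
      (Nat.mul_le_mul (not_lt.1 hc) (not_lt.1 hc)))
    omega
  rcases k3 c hc with (k | k) | k
  · exact absurd (Nat.mul_mod_left _ _) k
  · exact absurd (Nat.mod_eq_zero_of_dvd h2) k
  · split_ifs at k with ha
    · exact ⟨ha, Nat.dvd_of_mod_eq_zero (by simpa using k)⟩
    · exfalso
      have k' : c * (d3 * (d2 - d1)) < N * ((a - 1) * a).toNat := by simpa using k
      have h5 : 0 ≤ (a - 1) * a := by rcases le_or_gt a 0 with h | h <;> nlinarith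
      obtain ⟨t, ht⟩ := Int.eq_ofNat_of_zero_le h5
      rw [ht, Int.toNat_natCast, ← h1, mul_assoc] at k'
      rw [ht] at h4
      have h6 : n * t ≤ d3 * (d2 - d1) := by exact_mod_cast h4
      exact absurd (Nat.mul_le_mul_left c h6) (not_le.2 k')

theorem chk7 : chk 5663616 43 42 343 384 7 0 = true := by decide +kernel

theorem chk8 : ∀ a ∈ [-6, -4, -2, 0, 2, 4, 6], chk 5515776 19 56 512 567 8 a = true := by
  decide +kernel

theorem chk9 : ∀ a ∈ [-6, -3, 0, 3, 6], chk 42573600 73 72 729 800 9 a = true := by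
  decide +kernel

theorem num {p q r N : ℕ} (hq : (p = 7 ∧ q = 7 ∧ r = 43 ∧ N = 5663616) ∨
      (p = 2 ∧ q = 8 ∧ r = 19 ∧ N = 5515776) ∨ (p = 3 ∧ q = 9 ∧ r = 73 ∧ N = 42573600))
    {a : ℤ} {c n m : ℕ} (h1 : c * n = N) (h2 : c * r ∣ N)
    (h3 : (m : ℤ) * (c * c) * ((q * (q - 1) : ℕ) * (q ^ 3 : ℕ) * ((q + 1) ^ 2 * (q - 1) : ℕ)) =
      N * cm (q * (q - 1)) (q ^ 3) ((q + 1) ^ 2 * (q - 1)) a 0 a 0)
    (h4 : n * ((a - 1) * a) ≤ ((q + 1) ^ 2 * (q - 1) * (q ^ 3 - q * (q - 1)) : ℕ))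
    (h5 : (p : ℤ) ∣ a) : a = -q ∨ (a = 0 ∧ c ∣ q ^ 2) := by
  have h0 : 0 ≤ N * cm (q * (q - 1)) (q ^ 3) ((q + 1) ^ 2 * (q - 1)) a 0 a 0 := by
    rw [← h3]; positivity
  rcases hq with ⟨rfl, rfl, rfl, rfl⟩ | ⟨rfl, rfl, rfl, rfl⟩ | ⟨rfl, rfl, rfl, rfl⟩
  · have h6 : -7 ≤ a ∧ a < 7 := by
      simp only [cm] at h0; push_cast at h0; constructor <;> nlinarith
    have h7 : a = -7 ∨ a = 0 := by omega
    exact h7.imp id fun e => of_chk (e ▸ chk7) h1 h2 h3 h4
  · have h6 : -8 ≤ a ∧ a < 8 := by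
      simp only [cm] at h0; push_cast at h0; constructor <;> nlinarith
    have h7 : a = -8 ∨ a ∈ [-6, -4, -2, 0, 2, 4, 6] := by simp; omega
    exact h7.imp id fun e => of_chk (chk8 a e) h1 h2 h3 h4
  · have h6 : -9 ≤ a ∧ a < 9 := by
      simp only [cm] at h0; push_cast at h0; constructor <;> nlinarith
    have h7 : a = -9 ∨ a ∈ [-6, -3, 0, 3, 6] := by simp; omega
    exact h7.imp id fun e => of_chk (chk9 a e) h1 h2 h3 h4

/-- the arithmetic shape of the order -/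
structure Sh (G : Type*) [Group G] (p r d2 d3 : ℕ) : Prop where
  pp : p.Prime
  pw : ∃ j, d2 = p ^ j
  card : Nat.card G = d2 * (r * d3)
  nd : ¬ p ∣ r * d3

namespace UC

variable {p r d1 d2 d3 : ℕ} {χ St : G → ℤ} (h : UC G r d1 d2 d3 χ St) (s : Sh G p r d2 d3)
  {u : G}
include h s

theorem ne : r ≠ p := fun e => s.nd (e ▸ dvd_mul_right _ _)

theorem not_dvd (hu : PE p u) : ¬ r ∣ orderOf u := fun e => by
  obtain ⟨k, hk⟩ := hu
  exact h.ne s ((Nat.prime_dvd_prime_iff_eq h.prime s.pp).1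
    (h.prime.dvd_of_dvd_pow (e.trans (orderOf_dvd_of_pow_eq_one hk))))

omit h in
theorem p_dvd (hu : PE p u) (h1 : u ≠ 1) : p ∣ orderOf u := by
  obtain ⟨k, hk⟩ := hu
  obtain ⟨i, -, hi⟩ := (Nat.dvd_prime_pow s.pp).1 (orderOf_dvd_of_pow_eq_one hk)
  rcases i with _ | i
  · exact absurd (orderOf_eq_one_iff.1 hi) h1
  · exact hi ▸ dvd_pow_self p i.succ_ne_zero

theorem st_zero (hu : PE p u) (h1 : u ≠ 1) : St u = 0 := by
  have := irr_eq_zero_of_dvd h.irr2 s.pp s.card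
    (by rw [deg_of_eq (d := d2) (by rw [h.deg2]; simp)]) s.nd (p_dvd s hu h1)
  exact_mod_cast this

theorem not_dvd_cc (hu : PE p u) (h1 : u ≠ 1) : ¬ r ∣ cc u := fun e => by
  obtain ⟨x, hx, hc⟩ := exists_of_prime_dvd_cc h.prime e
  have h2 := orderOf_dvd_cc (g := x) hc.symm.eq
  rw [h.ccr x hx] at h2
  exact h.ne s ((Nat.prime_dvd_prime_iff_eq s.pp h.prime).1 ((p_dvd s hu h1).trans h2)).symm

theorem psi_zero {ψ : G → ℂ} (hψ : IsIrrCharacter G ψ) (hd : deg ψ = d3) {l : ℕ} (hl : l.Prime)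
    (h1 : l ≠ p) (h2 : l ≠ r) (hu : l ∣ orderOf u) : ψ u = 0 := by
  obtain ⟨j, rfl⟩ := s.pw
  refine irr_eq_zero_of_dvd hψ hl (A := d3) (B := r * p ^ j) (by rw [s.card]; ring) (hd ▸ dvd_rfl)
    (fun e => ?_) hu
  rcases (Nat.Prime.dvd_mul hl).1 e with e | e
  · exact h2 ((Nat.prime_dvd_prime_iff_eq hl h.prime).1 e)
  · exact h1 ((Nat.prime_dvd_prime_iff_eq hl s.pp).1 (hl.dvd_of_dvd_pow e))

theorem phi_zero (h1 : ¬ PE p u) (h2 : ¬ r ∣ orderOf u) : χ u + St u - 1 = 0 := by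
  obtain ⟨ψ, hψ, hd, hv⟩ := h.exc
  obtain ⟨l, hl, h3, h4⟩ : ∃ l, l.Prime ∧ l ∣ orderOf u ∧ l ≠ p := by
    by_contra hn
    push Not at hn
    exact h1 ⟨_, by
      rw [← Nat.eq_prime_pow_of_unique_prime_dvd (orderOf_pos u).ne' fun hd hd' => hn _ hd hd',
        pow_orderOf_eq_one]⟩
  have := h.psi_zero s hψ hd hl h4 (fun e => h2 (e ▸ h3)) h3
  rw [hv u h2] at this
  exact_mod_cast this

theorem cc_dvd_of {z : ℕ} (hu : PE p u) (h1 : u ≠ 1) (hz : χ u = 1 - z) : cc u ∣ d2 * z := by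
  obtain ⟨ψ, hψ, hd, hv⟩ := h.exc
  refine (Nat.dvd_iff_prime_pow_dvd_dvd _ _).2 fun l k hl hk => ?_
  by_cases e : l = p
  · subst e
    refine Dvd.dvd.mul_right (Nat.Coprime.dvd_of_dvd_mul_right (n := r * d3) ?_ ?_) _
    · exact ((Nat.Prime.coprime_iff_not_dvd hl).2 s.nd).pow_left k
    · exact s.card ▸ hk.trans (cc_dvd u)
  rcases k with _ | k
  · simp
  have e' : l ≠ r := fun e' =>
    h.not_dvd_cc s hu h1 (e' ▸ (dvd_pow_self l k.succ_ne_zero).trans hk)
  have := Fact.mk hl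
  obtain ⟨D, hD⟩ := Sylow.exists_subgroup_card_pow_prime (G := centralizer ({u} : Set G)) l hk
  have hD' : Nat.card (D.map (centralizer ({u} : Set G)).subtype) = l ^ (k + 1) := by
    rw [card_map_of_injective (subtype_injective _), hD]
  have hc : ∀ y ∈ D.map (centralizer ({u} : Set G)).subtype, Commute u y := by
    rintro _ ⟨y, -, rfl⟩
    exact (mem_centralizer_singleton_iff.1 y.2).symm
  have h3 := card_dvd_of_vanish (irr_isCharacter hψ) _ hc (fun y hy y1 => ?_) (hv u (h.not_dvd s hu))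
  · rw [hD', hz, h.st_zero s hu h1, show (1 - z + 0 - 1 : ℤ) = -z by ring, Int.dvd_neg,
      Int.natCast_dvd_natCast] at h3
    exact h3.mul_left _
  · refine h.psi_zero s hψ hd hl e e' ?_
    obtain ⟨i, -, hi⟩ := (Nat.dvd_prime_pow hl).1 (hD' ▸ orderOf_dvd_natCard _ hy)
    obtain ⟨j, hj⟩ := hu
    obtain ⟨j', -, hj'⟩ := (Nat.dvd_prime_pow s.pp).1 (orderOf_dvd_of_pow_eq_one hj)
    rw [(hc y hy).orderOf_mul_eq_mul_orderOf_of_coprime
      (by rw [hi, hj']; exact Nat.coprime_pow_primes _ _ s.pp hl (Ne.symm e))]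
    rcases i with _ | i
    · exact absurd (orderOf_eq_one_iff.1 hi) y1
    · exact (hi ▸ dvd_pow_self l i.succ_ne_zero).mul_left _

open Classical in
theorem split [Fintype G] (f : G → ℤ) (c : ℤ) (hf : ∀ g, r ∣ orderOf g → f g = c) :
    ∑ g, (χ g + St g - 1) * f g = (d1 + d2 - 1) * f 1 +
      ∑ g ∈ Finset.univ.filter (fun g => PE p g ∧ g ≠ 1), (χ g - 1) * f g -
      3 * c * (Finset.univ.filter fun g : G => r ∣ orderOf g).card := by
  have e : ∀ g, (χ g + St g - 1) * f g = (if g = 1 then (d1 + d2 - 1) * f 1 else 0) +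
      (if PE p g ∧ g ≠ 1 then (χ g - 1) * f g else 0) - if r ∣ orderOf g then 3 * c else 0 := by
    intro g
    by_cases g1 : g = 1
    · subst g1
      simp [h.deg1, h.deg2, h.prime.ne_one]
    by_cases g2 : PE p g
    · simp [g1, g2, h.not_dvd s g2, h.st_zero s g2 g1]
    by_cases g3 : r ∣ orderOf g
    · simp only [g1, g2, g3, (h.sing g g3).1, (h.sing g g3).2, hf g g3, if_true, if_false,
        false_and]
      ring
    · simp [g1, g2, g3, h.phi_zero s g2 g3]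
  simp only [e, Finset.sum_sub_distrib, Finset.sum_add_distrib, Finset.sum_ite_eq',
    Finset.mem_univ, if_true, ← Finset.sum_filter, Finset.sum_const, nsmul_eq_mul]
  ring

open Classical in
theorem sums [Fintype G] (e1 : d1 ≠ 1) (e2 : d2 ≠ 1) (e3 : d1 ≠ d2) (e4 : (d1 + d2 - 1 : ℤ) = d3) :
    ∑ g ∈ Finset.univ.filter (fun g => PE p g ∧ g ≠ 1), (χ g - 1) * χ g = d3 * (d2 - d1) ∧
    ∑ g ∈ Finset.univ.filter (fun g => PE p g ∧ g ≠ 1), (χ g - 1) = -(d3 * (d2 + 1)) := by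
  have i1 : IsIrrCharacter G fun g => (((fun _ => 1 : G → ℤ) g : ℤ) : ℂ) := by
    simp only [Int.cast_one]
    exact irr_one
  have a1 := (sum_int h.irr1 i1).1 (by rw [h.deg1]; exact_mod_cast e1)
  have a2 := (sum_int h.irr2 i1).1 (by rw [h.deg2]; exact_mod_cast e2)
  have a3 := (sum_int h.irr1 h.irr2).1 (by rw [h.deg1, h.deg2]; exact_mod_cast e3)
  have a4 := (sum_int h.irr1 h.irr1).2 rfl
  have a5 := (sum_int h.irr2 h.irr2).2 rfl
  have a6 := (sum_int i1 i1).2 rfl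
  have b1 := h.split s (fun _ => 1) 1 fun _ _ => rfl
  have b2 := h.split s St (-1) fun g hg => (h.sing g hg).2
  have b3 := h.split s χ (-1) fun g hg => (h.sing g hg).1
  rw [Finset.sum_eq_zero (s := Finset.univ.filter _) fun g hg => by
    rw [Finset.mem_filter] at hg
    rw [h.st_zero s hg.2.1 hg.2.2, mul_zero]] at b2
  simp only [sub_mul, add_mul, Finset.sum_sub_distrib, Finset.sum_add_distrib, mul_comm (St _) (χ _),
    mul_one, one_mul, h.deg1, h.deg2] at *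
  rw [← e4]
  constructor <;> linarith

end UC

theorem UC.xd {p q r : ℕ} {χ St : G → ℤ}
    (hq : (p = 7 ∧ q = 7 ∧ r = 43 ∧ Nat.card G = 5663616) ∨
      (p = 2 ∧ q = 8 ∧ r = 19 ∧ Nat.card G = 5515776) ∨
      (p = 3 ∧ q = 9 ∧ r = 73 ∧ Nat.card G = 42573600))
    (h : UC G r (q * (q - 1)) (q ^ 3) ((q + 1) ^ 2 * (q - 1)) χ St) : XD G p q χ := by
  classical
  have := Fintype.ofFinite G
  have s : Sh G p r (q ^ 3) ((q + 1) ^ 2 * (q - 1)) := by
    rcases hq with ⟨rfl, rfl, rfl, e⟩ | ⟨rfl, rfl, rfl, e⟩ | ⟨rfl, rfl, rfl, e⟩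
    exacts [⟨by norm_num, ⟨3, rfl⟩, e, by decide⟩, ⟨by norm_num, ⟨9, rfl⟩, e, by decide⟩,
      ⟨by norm_num, ⟨6, rfl⟩, e, by decide⟩]
  have hq' : q = 7 ∨ q = 8 ∨ q = 9 := by omega
  have hpq : (p : ℤ) ∣ χ 1 := by
    rw [h.deg1]
    rcases hq with ⟨rfl, rfl, -⟩ | ⟨rfl, rfl, -⟩ | ⟨rfl, rfl, -⟩ <;> decide
  have conj : ∀ g k : G, χ (k * g * k⁻¹) = χ g := fun g k => by
    exact_mod_cast irr_isClassFunction h.irr1 g k
  obtain ⟨s1, s2⟩ := h.sums s (by rcases hq' with rfl | rfl | rfl <;> decide)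
    (by rcases hq' with rfl | rfl | rfl <;> decide) (by rcases hq' with rfl | rfl | rfl <;> decide)
    (by rcases hq' with rfl | rfl | rfl <;> decide)
  set U := Finset.univ.filter fun g : G => PE p g ∧ g ≠ 1 with hU
  have cl : ∀ u v : G, IsConj u v → PE p u → (u ≠ 1 → v ∈ U) ∧ PE p v ∧ χ v = χ u := by
    intro u v c0 ⟨k, hk⟩
    obtain ⟨c, rfl⟩ := isConj_iff.1 c0
    have : PE p (c * u * c⁻¹) := ⟨k, by rw [conj_pow, hk]; simp⟩
    exact ⟨fun h1 => Finset.mem_filter.2 ⟨Finset.mem_univ _, this, by simpa using h1⟩, this,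
      conj u c⟩
  have val : ∀ u : G, u ≠ 1 → PE p u → χ u = -q ∨ (χ u = 0 ∧ cc u ∣ q ^ 2) := by
    intro u h1 hu
    obtain ⟨m, hm⟩ := h.mul u u h1 (h.not_dvd s hu) (h.not_dvd s hu)
    rw [h.st_zero s hu h1] at hm
    refine num hq (cc_mul u) (Nat.Coprime.mul_dvd_of_dvd_of_dvd
      ((Nat.Prime.coprime_iff_not_dvd h.prime).2 (h.not_dvd_cc s hu h1)).symm (cc_dvd u) h.dvd) hm ?_ ?_
    · have h2 : ∑ g ∈ Finset.univ.filter (IsConj u), (χ g - 1) * χ g ≤ ∑ g ∈ U, (χ g - 1) * χ g :=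
        Finset.sum_le_sum_of_subset_of_nonneg
          (fun v hv => (cl u v (Finset.mem_filter.1 hv).2 hu).1 h1)
          fun g _ _ => by rcases le_or_gt (χ g) 0 with h | h <;> nlinarith
      rw [s1, Finset.sum_congr rfl fun v hv => by rw [(cl u v (Finset.mem_filter.1 hv).2 hu).2.2],
        Finset.sum_const, nsmul_eq_mul] at h2
      rw [Set.ncard_eq_toFinset_card', Set.toFinset_setOf]
      refine h2.trans_eq ?_
      rcases hq' with rfl | rfl | rfl <;> rfl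
    · simpa using (dvd_sub_of_pe s.pp (irr_isCharacter h.irr1) hu).add hpq
  have one : χ 1 ≠ -q := by rw [h.deg1]; rcases hq' with rfl | rfl | rfl <;> decide
  have key : ∀ (T : Finset G) (a b : ℤ), (∀ g ∈ T, PE p g ∧ g ≠ 1) → ∀ F : ℤ → ℤ,
      ∑ g ∈ T, F (χ g) = F 0 * T.card + (F (-q) - F 0) * (T.filter fun g => χ g = -q).card := by
    intro T a b hT F
    rw [Finset.card_filter, Finset.card_eq_sum_ones]
    push_cast
    rw [Finset.mul_sum, Finset.mul_sum, ← Finset.sum_add_distrib]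
    refine Finset.sum_congr rfl fun g hg => ?_
    split_ifs with e
    · rw [e]; ring
    · rw [((val g (hT g hg).2 (hT g hg).1).resolve_left e).1]; ring
  have hUm : ∀ g ∈ U, PE p g ∧ g ≠ 1 := fun g hg => (Finset.mem_filter.1 hg).2
  have k1 := key U 0 0 hUm fun a => (a - 1) * a
  have k2 := key U 0 0 hUm fun a => a - 1
  have eX : {u : G | PE p u ∧ χ u = -q}.ncard = (U.filter fun g => χ g = -q).card := by
    rw [← Set.ncard_coe_finset]
    congr 1
    ext g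
    simp only [Set.mem_setOf_eq, hU, Finset.coe_filter, Finset.mem_filter, Finset.mem_univ, true_and]
    exact ⟨fun e => ⟨⟨e.1, fun g1 => one (g1 ▸ e.2)⟩, e.2⟩, fun e => ⟨e.1.1, e.2⟩⟩
  have eU : {u : G | PE p u}.ncard = U.card + 1 := by
    rw [← Finset.card_insert_of_notMem (a := 1) (by simp [hU]), ← Set.ncard_coe_finset]
    congr 1
    ext g
    simp only [Set.mem_setOf_eq, hU, Finset.coe_insert, Finset.coe_filter, Set.mem_insert_iff,
      Finset.mem_univ, true_and]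
    exact ⟨fun e => (em (g = 1)).imp id fun e' => ⟨e, e'⟩, fun e => e.elim
      (fun e => ⟨0, by simp [e]⟩) And.left⟩
  have cntX : {u : G | PE p u ∧ χ u = -q}.ncard = (q ^ 3 + 1) * (q - 1) := by
    rw [eX]
    rw [s1] at k1
    rcases hq' with rfl | rfl | rfl <;> norm_num at k1 ⊢ <;> omega
  refine ⟨conj, by rw [h.deg1]; push_cast; rfl, val, fun u hu e => ⟨?_, ?_⟩, cntX, ?_,
    fun Q hQ => ?_, fun e u hu => ?_⟩
  · exact h.cc_dvd_of s hu (fun g1 => one (g1 ▸ e)) (by rw [e]; push_cast; ring)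
  · rw [← cc_mul u, ← cntX]
    exact Nat.mul_le_mul_left _ (Set.ncard_le_ncard
      (fun v hv => ⟨(cl u v hv hu).2.1, (cl u v hv hu).2.2.trans e⟩) (Set.toFinite _))
  · rw [eU]
    rw [s2, ← eX, cntX] at k2
    rcases hq' with rfl | rfl | rfl <;> norm_num at k2 ⊢ <;> omega
  · obtain ⟨j, hj⟩ := s.pw
    obtain ⟨m, hm⟩ := inner_char_char (char_restrict (irr_isCharacter h.irr1) Q) char_one'
    have hc := card_ne_zero' Q
    simp only [classInner, Pi.one_apply, map_one, mul_one] at hm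
    rw [inv_mul_eq_iff_eq_mul₀ hc, hQ, ← Finset.sum_subtype (Finset.univ.filter (· ∈ Q))
      (p := (· ∈ Q)) (by simp) fun g => (χ g : ℂ),
      ← Finset.add_sum_erase _ _ (a := 1) (by simp)] at hm
    have k3 := key ((Finset.univ.filter (· ∈ Q)).erase 1) 0 0 (fun g hg => ⟨⟨j, by
      rw [← hj, ← hQ]
      exact orderOf_dvd_iff_pow_eq_one.1
        (orderOf_dvd_natCard _ (Finset.mem_filter.1 (Finset.mem_of_mem_erase hg)).2)⟩,
      Finset.ne_of_mem_erase hg⟩) id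
    have hm' : χ 1 + ∑ g ∈ (Finset.univ.filter (· ∈ Q)).erase 1, χ g = (q ^ 3 : ℕ) * m := by
      exact_mod_cast hm
    have eQ : {u : G | u ∈ Q ∧ χ u = -q}.ncard =
        (((Finset.univ.filter (· ∈ Q)).erase 1).filter fun g => χ g = -q).card := by
      rw [← Set.ncard_coe_finset]
      congr 1
      ext g
      simp only [Set.mem_setOf_eq, Finset.coe_filter, Finset.mem_erase, Finset.mem_filter,
        Finset.mem_univ, true_and]
      exact ⟨fun e => ⟨⟨fun g1 => one (g1 ▸ e.2), e.1⟩, e.2⟩, fun e => ⟨e.1.2, e.2⟩⟩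
    simp only [id] at k3
    rw [eQ]
    rw [k3, h.deg1] at hm'
    rcases hq' with rfl | rfl | rfl <;> norm_num at hm' ⊢ <;> omega
  · have u1 : u ≠ 1 := fun e => by simp [e] at hu
    have pe : PE p u := ⟨1, by rw [e, pow_one, ← hu, pow_orderOf_eq_one]⟩
    refine (val u u1 pe).resolve_right fun e => ?_
    have := h.inv u hu
    rw [e.1, h.st_zero s pe u1] at this
    revert this
    rcases hq' with rfl | rfl | rfl <;> decide

end Cfsg.Agent.U45
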