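import Cfsg.Agent.U45.Defs
import Cfsg.Agent.CIT.Galois

/-!
# The principal block for a self-centralising Sylow subgroup of prime order
-/

set_option autoImplicit false
set_option linter.unusedSectionVars false

namespace Cfsg.Agent.U45

open Finset Subgroup Cfsg.Agent.Char Cfsg.Agent.Block Cfsg.Agent.Zass Cfsg.Agent.Local
  Cfsg.Agent.M11 Cfsg.Agent.Small
open scoped ComplexConjugate

def ucL (N : ℕ) : List ℕ := (List.range 6600).filter fun d => Nat.ble 2 d && N % d == 0

def ucB (N p e : ℕ) (L : List (List (ℕ × ℤ))) : Bool :=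
  fL (ucL N) fun dl => M12R.B dl (fun d _ => [(d : ℤ)]) N p e (N / p) (N - 1) fun l r =>
    r % (p * p) == 0 && !L.any fun D => (l.map fun x => (x.1, x.2.1)).isPerm D

theorem mem_ucL {N d : ℕ} (hN : d * d ≤ 43000000) (h2 : 2 ≤ d) (hd : d ∣ N) : d ∈ ucL N := by
  have : d < 6600 := by nlinarith
  simp [ucL, this, h2, Nat.mod_eq_zero_of_dvd hd]

theorem sum_free {K X : Type*} [Group K] [Finite K] [Fintype X] [MulAction K X] (F : X → ℂ)
    (h1 : ∀ (k : K) x, F (k • x) = F x) (h2 : ∀ x, F x ≠ 0 → MulAction.stabilizer K x = ⊥) :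
    ∃ (s : Finset X), ∑ x, F x = Nat.card K * ∑ x ∈ s, F x := by
  classical
  have := Fintype.ofFinite K
  let Ω := MulAction.orbitRel.Quotient K X
  have : Fintype Ω := Fintype.ofFinite _
  refine ⟨univ.image fun ω : Ω => ω.out, ?_⟩
  rw [sum_image fun a _ b _ e => Quotient.out_injective e, mul_sum,
    ← sum_fiberwise (s := univ) (g := fun x : X => (Quotient.mk'' x : Ω))]
  refine sum_congr rfl fun ω _ => ?_
  have h3 : ∀ x, (Quotient.mk'' x : Ω) = ω ↔ x ∈ MulAction.orbit K ω.out := fun x => by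
    rw [← MulAction.orbitRel_apply, ← Quotient.eq'', Quotient.out_eq']
  rw [sum_congr rfl (g := fun _ => F ω.out) fun x hx => by
    obtain ⟨k, rfl⟩ := (h3 x).1 (mem_filter.1 hx).2
    exact h1 k _, sum_const, nsmul_eq_mul]
  by_cases h0 : F ω.out = 0
  · simp [h0]
  congr 2
  have h4 := MulAction.card_orbit_mul_card_stabilizer_eq_card_group K ω.out
  simp only [← Nat.card_eq_fintype_card] at h4
  rw [h2 _ h0, Subgroup.card_bot, mul_one] at h4
  rw [← h4, ← Fintype.card_subtype, ← Nat.card_eq_fintype_card]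
  exact Nat.card_congr (Equiv.subtypeEquivRight h3)

variable {G : Type*} [Group G]

theorem mem_zp [Finite G] {z g : G} (h : cc z = orderOf z) (hg : g * z = z * g) : g ∈ zpowers z := by
  have h1 : zpowers z ≤ centralizer {z} := by
    rintro _ ⟨i, rfl⟩
    exact mem_centralizer_singleton_iff.2 (Commute.zpow_left (Commute.refl z) i)
  rw [eq_of_le_of_card_ge h1 (by rw [Nat.card_zpowers]; exact h.le)]
  exact mem_centralizer_singleton_iff.2 hg

theorem ord_eq [Finite G] {r : ℕ} (h : ∀ x : G, orderOf x = r → cc x = r) {g : G}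
    (hg : r ∣ orderOf g) : orderOf g = r := by
  have h1 : orderOf (g ^ (orderOf g / r)) = r := orderOf_pow_orderOf_div (orderOf_pos g).ne' hg
  refine Nat.dvd_antisymm ?_ hg
  have := orderOf_dvd_cc (x := g) (g := g ^ (orderOf g / r)) (Commute.self_pow g _)
  rwa [h _ h1] at this

/-- two-sided multiplication -/
@[reducible] def biAct (A B : Subgroup G) : MulAction (A × B) G where
  smul k g := k.1 * g * (k.2 : G)⁻¹
  one_smul g := by change ((1 : A) : G) * g * ((1 : B) : G)⁻¹ = g; simp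
  mul_smul k l g := by
    change ((k.1 * l.1 : A) : G) * g * ((k.2 * l.2 : B) : G)⁻¹ =
      k.1 * (l.1 * g * (l.2 : G)⁻¹) * (k.2 : G)⁻¹
    simp [mul_assoc]

theorem sum_conj_mul [Fintype G] {r : ℕ} (hr : r.Prime) (h : ∀ x : G, orderOf x = r → cc x = r)
    {θ : G → ℂ} (hθ : IsClassFunction G θ) (h0 : ∀ g, (orderOf g).Coprime r → θ g = 0) {u v : G}
    (hu1 : u ≠ 1) (hu : ¬ r ∣ orderOf u) :
    ∃ s : Finset G, ∑ g, θ (g * u * g⁻¹ * v) = (cc u * cc v : ℕ) * ∑ g ∈ s, θ (g * u * g⁻¹ * v) := by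
  let := biAct (centralizer ({v} : Set G)) (centralizer ({u} : Set G))
  have hs : ∀ (k : centralizer ({v} : Set G) × centralizer ({u} : Set G)) (g : G),
      k • g = k.1 * g * (k.2 : G)⁻¹ := fun _ _ => rfl
  obtain ⟨s, hs'⟩ := sum_free (K := centralizer ({v} : Set G) × centralizer ({u} : Set G))
    (fun g => θ (g * u * g⁻¹ * v)) (fun k g => by
      have h1 := mem_centralizer_singleton_iff.1 k.1.2
      have h2 := mem_centralizer_singleton_iff.1 k.2.2
      rw [hs, ← hθ (g * u * g⁻¹ * v) k.1]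
      congr 1
      have h3 : (k.2 : G)⁻¹ * u * k.2 = u := by rw [mul_assoc, ← h2, inv_mul_cancel_left]
      have h4 : (k.1 : G)⁻¹ * v = v * (k.1 : G)⁻¹ := by
        rw [inv_mul_eq_iff_eq_mul, ← mul_assoc, h1, mul_inv_cancel_right]
      calc (k.1 : G) * g * (k.2 : G)⁻¹ * u * (k.1 * g * (k.2 : G)⁻¹)⁻¹ * v
          = k.1 * (g * ((k.2 : G)⁻¹ * u * k.2) * g⁻¹ * ((k.1 : G)⁻¹ * v)) := by group
        _ = _ := by rw [h3, h4]; group)
    (fun g hg => by
      rw [eq_bot_iff]
      intro k hk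
      rw [MulAction.mem_stabilizer_iff, hs] at hk
      have h1 := mem_centralizer_singleton_iff.1 k.1.2
      have h2 := mem_centralizer_singleton_iff.1 k.2.2
      have h3 : (k.1 : G) = g * k.2 * g⁻¹ := by
        rw [eq_mul_inv_iff_mul_eq, ← mul_inv_eq_iff_eq_mul, hk]
      have h4 : (k.1 : G) * (g * u * g⁻¹) = g * u * g⁻¹ * k.1 := by
        rw [h3, conj_mul, conj_mul, h2]
      have h5 : orderOf (g * u * g⁻¹ * v) = r := ord_eq h (by
        by_contra e
        exact hg (h0 _ ((Nat.Prime.coprime_iff_not_dvd hr).2 e).symm))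
      have h6 : (k.1 : G) ∈ zpowers (g * u * g⁻¹ * v) := mem_zp (by rw [h _ h5, h5]) (by
        rw [← mul_assoc, h4, mul_assoc, h1, ← mul_assoc])
      have h7 : (k.1 : G) = 1 := by
        by_contra e
        have h8 : orderOf (k.1 : G) = r := by
          have := orderOf_dvd_card_of_mem h6
          rw [Nat.card_zpowers, h5, Nat.dvd_prime hr, orderOf_eq_one_iff] at this
          exact this.resolve_left e
        have h9 := orderOf_dvd_card_of_mem (mem_zp (by rw [h _ h8, h8]) h4.symm)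
        rw [Nat.card_zpowers, h8, Local.orderOf_conj', Nat.dvd_prime hr, orderOf_eq_one_iff] at h9
        exact h9.elim hu1 fun e => hu e.symm.dvd
      have h8 : (k.2 : G) = 1 := by
        rw [h7, eq_comm, mul_inv_eq_one, mul_eq_left] at h3
        exact h3
      exact Prod.ext (Subtype.ext h7) (Subtype.ext h8))
  exact ⟨s, by rw [hs', Nat.card_prod, mul_comm (cc u)]; rfl⟩

theorem exists_int_fun [Finite G] {χ : G → ℂ} (hχ : IsIrrCharacter G χ)
    (h : ∀ θ, IsIrrCharacter G θ → deg θ = deg χ → θ = χ) : ∃ c : G → ℤ, χ = fun g => (c g : ℂ) := by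
  have h1 : ∀ g, ∃ n : ℤ, χ g = n := fun g =>
    CIT.exists_int_of_fixed (char_isIntegral (irr_isCharacter hχ) g) fun σ =>
      congrFun (h _ (CIT.irr_galois hχ σ) (deg_of_eq (by simp [irr_deg hχ]))) g
  choose c hc using h1
  exact ⟨c, funext hc⟩

/-- The data at an element `x` of order `r`. -/
structure Core (G : Type*) [Group G] [Fintype G] (r : ℕ) (x : G) (D : List (ℕ × ℤ)) (θ : G → ℂ)
    (T : Finset (IrrCharacter G)) (a : IrrCharacter G → ℤ) : Prop where
  gen : IsGeneralizedCharacter G θ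
  inn : ∀ χ : IrrCharacter G, classInner θ χ = a χ
  tab : T.val.map (fun χ => (deg χ.1, a χ)) = (D : Multiset (ℕ × ℤ))
  mem : ∀ χ : IrrCharacter G, χ.1 ≠ 1 → ¬ r ∣ deg χ.1 → χ ∈ T
  ne1 : ∀ χ ∈ T, χ.1 ≠ 1
  out : ∀ χ : IrrCharacter G, χ.1 ≠ 1 → χ ∉ T → a χ = 0
  one : a ⟨1, irr_one⟩ = 1
  val : ∀ χ : IrrCharacter G, a χ ≠ 0 → (∀ θ : IrrCharacter G, deg θ.1 = deg χ.1 → θ = χ) →
    χ.1 x = a χ
  reg : ∀ g, (orderOf g).Coprime r → θ g = 0
  pos : ∀ g, 0 ≤ (θ g).re
  inv : Nat.card (normalizer (zpowers x : Set G)) % 2 = 1 → ∀ s : G, orderOf s = 2 →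
    ∑ g, θ (g * s * g⁻¹ * s) = 0

theorem exists_core [Fintype G] [IsSimpleGroup G] (hna : ¬ IsMulCommutative G) {r e N : ℕ}
    (hr : r.Prime) (hN : Nat.card G = N) (hb : N ≤ 43000000 ∧ r ≠ 2 ∧ r ≤ 80 ∧ ¬ r * r ∣ N)
    (h : NP G r e) {L : List (List (ℕ × ℤ))} (hB : ucB N r e L = false) {x : G}
    (hx : orderOf x = r) : ∃ D ∈ L, ∃ θ T a, Core G r x D θ T a := by
  classical
  subst hN
  have := Fact.mk hr
  obtain ⟨b1, b2, b3, b4⟩ := hb
  have hp : PP r x := ⟨b2, hx, b4⟩
  obtain ⟨ψ, φ, θ, H⟩ := hp.exists_phi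
  choose a ha using fun k (χ : IrrCharacter G) =>
    inner_gen_gen (H.gen k) (gen_of_char (irr_isCharacter χ.2))
  obtain ⟨h1, h2⟩ := h x hx
  have hX : Nat.card hp.npc.compl = 1 := by
    have := hp.cc_eq
    rw [h1] at this
    exact (Nat.mul_eq_left hr.ne_zero).1 this.symm
  have hE : (EE r x).card = e := by
    have := hp.card_norm
    rw [h1, h2] at this
    exact Nat.eq_of_mul_eq_mul_left hr.pos this
  have hb := M12R.bd H ha hna b3
  have hD : ∃ D ∈ L, (TT ⟨1, irr_one⟩ a).val.map (fun χ => (deg χ.1, a 1 χ)) =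
      (D : Multiset (ℕ × ℤ)) := by
    by_contra hL
    have h3 := sum_TT_le (o := ⟨1, irr_one⟩) (a := a) fun χ => deg χ.1 * deg χ.1
    rw [sum_deg, deg_one] at h3
    rw [h1, hE] at hb
    rw [ucB, fL_eq, hb.search (v := fun χ => deg χ.1) (fun χ hχ => ?_) (by simp)
      (by simp [deg_one]) hb.deg0 (by simp only [Int.natAbs_natCast]; omega) fun l hl => ?_] at hB
    · cases hB
    · obtain ⟨h2, k, h3⟩ := mem_TT.1 hχ
      have h4 : χ.1 ≠ 1 := fun e => h2 (Subtype.ext e)
      exact mem_ucL ((deg_sq_le χ.2).trans b1) (two_le_deg (perfect hna) χ.2 h4) (deg_dvd_card χ.2)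
    simp only [Bool.and_eq_true, beq_iff_eq, Bool.not_eq_true', List.any_eq_false, List.isPerm_iff]
    refine ⟨?_, fun D hD e => hL ⟨D, hD, ?_⟩⟩
    · have h2 := sum_add_sum_compl (insert ⟨1, irr_one⟩ (TT ⟨1, irr_one⟩ a))
        fun χ : IrrCharacter G => deg χ.1 * deg χ.1
      rw [sum_deg, sum_insert (by simp [mem_TT]), deg_one] at h2
      rw [← h2, add_assoc, Nat.mul_one, Nat.add_sub_cancel_left, Nat.add_sub_cancel_left]
      refine Nat.mod_eq_zero_of_dvd (dvd_sum fun χ hχ => ?_)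
      simp only [mem_compl, mem_insert, mem_TT, not_or, not_and, not_exists, not_not] at hχ
      have := H.dvd_deg ha hX (hχ.2 hχ.1)
      exact mul_dvd_mul this this
    · rw [← Multiset.coe_eq_coe.2 e, ← Multiset.map_coe, hl, Multiset.map_map]
      rfl
  obtain ⟨D, hD, hT⟩ := hD
  refine ⟨D, hD, θ 1, _, a 1, H.gen 1, ha 1, hT, fun χ h3 h4 => mem_TT.2
    ⟨fun e => h3 (congrArg Subtype.val e), ?_⟩, fun χ hχ e => (mem_TT.1 hχ).1 (Subtype.ext e),
    fun χ h3 h4 => ?_, hb.ao 1 one_ne_zero, fun χ h3 h4 => M12R.val_x H ha h3 fun k hk => ?_,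
    fun g => H.reg 1, fun g => ?_, fun h3 s hs => ?_⟩
  · by_contra e
    push Not at e
    exact h4 (H.dvd_deg ha hX e)
  · by_contra e
    exact h4 (mem_TT.2 ⟨fun e => h3 (congrArg Subtype.val e), 1, e⟩)
  · by_cases h5 : k * 1⁻¹ ∈ EE r x
    · exact hb.eq_of hk one_ne_zero h5 χ
    have g1 := hb.gram 1 1 one_ne_zero one_ne_zero
    have g2 := hb.gram k 1 hk one_ne_zero
    have g3 := hb.gram k k hk hk
    rw [inv_one, mul_one, if_pos hb.E1] at g1
    rw [if_neg h5] at g2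
    rw [mul_inv_cancel₀ hk, if_pos hb.E1] at g3
    obtain ⟨α, β, h6, h7⟩ := exists_pm (u := fun χ => a k χ - a 1 χ) hb.dpos (by
      simp only [sub_sq]
      simp only [sum_add_distrib, sum_sub_distrib, pow_two, mul_assoc, ← mul_sum]
      linarith) (by
      simp only [sub_mul, sum_sub_distrib, hb.deg0 1 one_ne_zero, hb.deg0 k hk, sub_self])
    have h8 : deg α.1 = deg β.1 := by
      have h9 : ∑ χ, (a k χ - a 1 χ) * (deg χ.1 : ℤ) = 0 := by
        simp only [sub_mul, sum_sub_distrib, hb.deg0 1 one_ne_zero, hb.deg0 k hk, sub_self]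
      simp only [h7, sum_pm] at h9
      exact_mod_cast sub_eq_zero.1 h9
    have h9 := h7 χ
    rw [if_neg, if_neg, sub_self, sub_eq_zero] at h9
    · exact h9
    · rintro rfl
      exact h6 (h4 _ h8)
    · rintro rfl
      exact h6 (h4 _ h8.symm).symm
  · rw [H.ind, ← Complex.ofReal_natCast, ← Complex.ofReal_inv, Complex.re_ofReal_mul, Complex.re_sum]
    refine mul_nonneg (by positivity) (sum_nonneg fun y _ => ?_)
    by_cases h3 : φ 1 (y * g * y⁻¹) = 0
    · simp [h3]
    obtain ⟨i, -, u, hu, e⟩ := H.supp h3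
    rw [e, H.val 1 i u hu, Complex.sub_re, Complex.one_re, sub_nonneg]
    exact (Complex.re_le_norm _).trans (AddChar.norm_apply ψ _).le
  · have h4 := H.classSum (mul_self_of_orderOf hs)
    rw [card_eq_zero.2, Nat.cast_zero, mul_zero, zero_pow two_ne_zero, mul_eq_zero] at h4
    · exact h4.resolve_left (Nat.cast_ne_zero.2 (cc_pos x).ne')
    rw [filter_eq_empty_iff]
    rintro u - ⟨h8, h9⟩
    have h5 : u ∈ normalizer (zpowers x : Set G) := mem_normalizer_of_conj_mem fun n hn => by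
      obtain ⟨i, rfl⟩ := hn
      rw [← conj_zpow, h9]
      exact zpow_mem (inv_mem (mem_zpowers x)) i
    have h6 := orderOf_dvd_card_of_mem h5
    rw [← isConj_orderOf h8, hs] at h6
    omega

end Cfsg.Agent.U45
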