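import Cfsg.Agent.M12R.Kill
import Cfsg.Agent.Small.Rho
import Cfsg.Agent.PSL2Rec.DegPSL

/-!
# Groups with the order of a small unitary, linear or Suzuki group: definitions
-/

set_option autoImplicit false

namespace Cfsg.Agent.U45

open Subgroup Cfsg.Agent.Char Cfsg.Agent.Zass Cfsg.Agent.M11 Cfsg.Agent.Small

/-- every element of order `r` is self-centralising with automizer of order `e` -/
def NP (G : Type*) [Group G] (r e : ℕ) : Prop :=
  ∀ x : G, orderOf x = r → cc x = r ∧ Nat.card (normalizer (zpowers x : Set G)) = r * e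

/-- no element of order `r` generates a normal subgroup -/
def NN (G : Type*) [Group G] (r : ℕ) : Prop := ∀ x : G, orderOf x = r → ¬ (zpowers x).Normal

/-- `p`-elements -/
def PE {G : Type*} [Group G] (p : ℕ) (u : G) : Prop := ∃ k : ℕ, u ^ p ^ k = 1

/-- the class multiplication expression -/
def cm (d1 d2 d3 : ℕ) (a b a' b' : ℤ) : ℤ :=
  d1 * d2 * d3 - a * a' * (d2 * d3) - b * b' * (d1 * d3) + (a + b - 1) * (a' + b' - 1) * (d1 * d2)

/-- The principal `r`-block `1 - χ - St + ψ` (inertial index three). -/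
structure UC (G : Type*) [Group G] (r d1 d2 d3 : ℕ) (χ St : G → ℤ) : Prop where
  prime : r.Prime
  dvd : r ∣ Nat.card G
  irr1 : IsIrrCharacter G fun g => (χ g : ℂ)
  irr2 : IsIrrCharacter G fun g => (St g : ℂ)
  deg1 : χ 1 = d1
  deg2 : St 1 = d2
  ccr : ∀ x : G, orderOf x = r → cc x = r
  sing : ∀ g : G, r ∣ orderOf g → χ g = -1 ∧ St g = -1
  exc : ∃ ψ : G → ℂ, IsIrrCharacter G ψ ∧ deg ψ = d3 ∧
    ∀ g : G, ¬ r ∣ orderOf g → ψ g = ((χ g + St g - 1 : ℤ) : ℂ)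
  uniq : ∀ θ : G → ℂ, IsIrrCharacter G θ → deg θ = d2 → θ = fun g => (St g : ℂ)
  mul : ∀ u v : G, u ≠ 1 → ¬ r ∣ orderOf u → ¬ r ∣ orderOf v → ∃ m : ℕ,
    (m : ℤ) * (cc u * cc v) * (d1 * d2 * d3) = Nat.card G * cm d1 d2 d3 (χ u) (St u) (χ v) (St v)
  inv : ∀ u : G, orderOf u = 2 → cm d1 d2 d3 (χ u) (St u) (χ u) (St u) = 0
  rho : Rho G r

/-- The principal `r`-block `1 - St + ψ` (inertial index two). -/
structure UD (G : Type*) [Group G] (r q : ℕ) (St : G → ℤ) : Prop where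
  prime : r.Prime
  dvd : r ∣ Nat.card G
  irr : IsIrrCharacter G fun g => (St g : ℂ)
  deg1 : St 1 = q
  ccr : ∀ x : G, orderOf x = r → cc x = r
  sing : ∀ g : G, r ∣ orderOf g → St g = -1
  exc : ∃ ψ : G → ℂ, IsIrrCharacter G ψ ∧ deg ψ = q - 1 ∧
    ∀ g : G, ¬ r ∣ orderOf g → ψ g = ((St g - 1 : ℤ) : ℂ)
  rho : Rho G r

/-- The distribution of the `p`-elements. -/
structure XD (G : Type*) [Group G] (p q : ℕ) (χ : G → ℤ) : Prop where
  conj : ∀ g h : G, χ (h * g * h⁻¹) = χ g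
  one : χ 1 = q * (q - 1 : ℕ)
  val : ∀ u : G, u ≠ 1 → PE p u → χ u = -q ∨ (χ u = 0 ∧ cc u ∣ q ^ 2)
  ccX : ∀ u : G, PE p u → χ u = -q →
    cc u ∣ q ^ 3 * (q + 1) ∧ Nat.card G ≤ cc u * ((q ^ 3 + 1) * (q - 1))
  cntX : {u : G | PE p u ∧ χ u = -q}.ncard = (q ^ 3 + 1) * (q - 1)
  cntU : {u : G | PE p u}.ncard = q ^ 6
  syl : ∀ Q : Subgroup G, Nat.card Q = q ^ 3 → {u : G | u ∈ Q ∧ χ u = -q}.ncard = q - 1
  inv : p = 2 → ∀ u : G, orderOf u = 2 → χ u = -q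

/-- the pairs (order, prime) -/
def pairs : List (ℕ × ℕ) := [(6072, 23), (7800, 13), (51888, 47), (265680, 41), (5663616, 43),
  (5515776, 19), (42573600, 73), (29120, 13), (32537600, 41)]

end Cfsg.Agent.U45
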