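import Cfsg.Agent.U45.Red
import Cfsg.Agent.U45.Np2
import Cfsg.Agent.U45.UC
import Cfsg.Agent.U45.Num
import Cfsg.Agent.U45.LocN
import Cfsg.Agent.U45.Act
import Cfsg.Agent.U45.L2
import Cfsg.Agent.U45.Sz
import Cfsg.Agent.U45.Psu
import Cfsg.Agent.Small.Uniq

/-!
# Assembly
-/

set_option autoImplicit false

namespace Cfsg.Agent.U45

open Subgroup Cfsg.Agent.Char Cfsg.Agent.Zass Cfsg.Agent.M11 Cfsg.Agent.Small

universe u v w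

/-- identification of the simple groups -/
def Idn (N r : ℕ) (Y : Type v) [Group Y] : Prop :=
  ∀ (M : Type u) [Group M] [Finite M] [IsSimpleGroup M], ¬ IsMulCommutative M → Nat.card M ∣ N →
    r ∣ Nat.card M → Nat.card M = N ∧ Nonempty (M ≃* Y) ∧ Rho M r

theorem red_id {G : Type u} [Group G] [Finite G] {N r : ℕ} (h : (N, r) ∈ pairs) (hG : Nat.card G = N)
    (hn : NN G r) {Y : Type v} [Group Y] (hI : Idn.{u} N r Y) : Nonempty (G ≃* Y) ∧ Rho G r := by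
  obtain ⟨M, -, m2, m3, m4, m5, m6⟩ := red h hG hn
  obtain ⟨h1, ⟨e⟩, h2⟩ := hI M m3 m5 m4
  obtain ⟨f⟩ := m6 h1
  exact ⟨⟨f.trans e⟩, h2.of_surj f.toMonoidHom f.surjective⟩

theorem asm {G : Type u} [Group G] [Finite G] {S : Type w} [Group S] [Finite S] {N r : ℕ}
    (h : (N, r) ∈ pairs) {Y : Type v} [Group Y] (e : S ≃* Y) (hY : Nat.card Y = N) (nY : NN Y r)
    (i0 : Idn.{w} N r Y) (i1 : Idn.{u} N r Y) (hc : Nat.card G = Nat.card S)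
    (hΔ : degreePrimes G = degreePrimes S) : Nonempty (G ≃* S) := by
  have hS := (Nat.card_congr e.toEquiv).trans hY
  have h1 := (red_id h hS (nY.of_equiv e) i0).2
  have h2 : r ∈ degreePrimes S := ⟨(pairs_spec _ h).1, rho_iff.1 h1⟩
  rw [← hΔ] at h2
  obtain ⟨⟨f⟩, -⟩ := red_id h (hc.trans hS) (nn_of_rho h (hc.trans hS) (rho_iff.2 h2.2)) i1
  exact ⟨f.trans e.symm⟩

variable {F : Type v} [Field F] [Fintype F]

theorem idn23 (hF : Fintype.card F = 23) :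
    Idn.{u} 6072 23 (Matrix.ProjectiveSpecialLinearGroup (Fin 2) F) := fun _ _ _ _ hna hd hr =>
  let ⟨h1, h2⟩ := np23 hna hd hr
  ⟨h1, l2_prime hna (Or.inl ⟨rfl, h1⟩) h2 hF⟩

theorem idn47 (hF : Fintype.card F = 47) :
    Idn.{u} 51888 47 (Matrix.ProjectiveSpecialLinearGroup (Fin 2) F) := fun _ _ _ _ hna hd hr =>
  let ⟨h1, h2⟩ := np47 hna hd hr
  ⟨h1, l2_prime hna (Or.inr ⟨rfl, h1⟩) h2 hF⟩

theorem idn25 (hF : Fintype.card F = 25) :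
    Idn.{u} 7800 13 (Matrix.ProjectiveSpecialLinearGroup (Fin 2) F) := fun _ _ _ _ hna hd hr =>
  let ⟨h1, h2⟩ := np25 hna hd hr
  let ⟨_, h3⟩ := exists_UD hna (Or.inl ⟨rfl, rfl, h1⟩) h2
  ⟨h1, h3.l2 (Or.inl ⟨rfl, rfl, h1⟩) hF, h3.rho⟩

theorem idn81 (hF : Fintype.card F = 81) :
    Idn.{u} 265680 41 (Matrix.ProjectiveSpecialLinearGroup (Fin 2) F) := fun _ _ _ _ hna hd hr =>
  let ⟨h1, h2⟩ := np81 hna hd hr
  let ⟨_, h3⟩ := exists_UD hna (Or.inr ⟨rfl, rfl, h1⟩) h2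
  ⟨h1, h3.l2 (Or.inr ⟨rfl, rfl, h1⟩) hF, h3.rho⟩

theorem idn7 (hF : Fintype.card F = 7 ^ 2) : Idn.{u} 5663616 43 (PSU 3 F 7) :=
  fun _ _ _ _ hna hd hr => by
    have := Fact.mk (by norm_num : Nat.Prime 7)
    obtain ⟨h1, h2⟩ := np7 hna hd hr
    obtain ⟨χ, St, h3⟩ := exists_UC hna (Or.inl ⟨rfl, rfl, h1⟩) h2
    have h4 := h3.xd (Or.inl ⟨rfl, rfl, rfl, h1⟩)
    exact ⟨h1, h3.psu_odd (Or.inl ⟨rfl, rfl, rfl, h1⟩) h4 (h4.card_sylow (Or.inl ⟨rfl, rfl, h1⟩)) hF,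
      h3.rho⟩

theorem idn9 (hF : Fintype.card F = 9 ^ 2) : Idn.{u} 42573600 73 (PSU 3 F 9) :=
  fun _ _ _ _ hna hd hr => by
    obtain ⟨h1, h2⟩ := np9 hna hd hr
    obtain ⟨χ, St, h3⟩ := exists_UC hna (Or.inr (Or.inr ⟨rfl, rfl, h1⟩)) h2
    have h4 := h3.xd (Or.inr (Or.inr ⟨rfl, rfl, rfl, h1⟩))
    exact ⟨h1, h3.psu_odd (Or.inr ⟨rfl, rfl, rfl, h1⟩) h4 (h4.card_sylow (Or.inr ⟨rfl, rfl, h1⟩)) hF,
      h3.rho⟩

theorem idnSz {m N r : ℕ} (hm : (m = 1 ∧ N = 29120 ∧ r = 13) ∨ (m = 2 ∧ N = 32537600 ∧ r = 41))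
    (hF : Fintype.card F = 2 ^ (2 * m + 1)) : Idn.{u} N r ↥(Cfsg.Lie.Sz F (2 ^ (m + 1))) :=
  fun _ _ _ _ hna hd _ => by
    obtain ⟨e⟩ := sz_of_simple hna (m := m) (by
      rcases hm with ⟨rfl, rfl, -⟩ | ⟨rfl, rfl, -⟩
      exacts [Or.inl ⟨rfl, hd⟩, Or.inr ⟨rfl, hd⟩]) hF
    obtain ⟨h1, h2⟩ := sz_data hm hF
    exact ⟨(Nat.card_congr e.toEquiv).trans h1, ⟨e⟩, h2.of_surj e.toMonoidHom e.surjective⟩

theorem nn_psu {q r : ℕ} (hF : Fintype.card F = q ^ 2) (h : 1 < r ∧ r ≤ q ^ 3 ∧ 2 < q) :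
    NN (PSU 3 F q) r := fun x hx hn => by
  have := psu3_normal hF (zpowers x) fun e => by
    rw [zpowers_eq_bot.1 e, orderOf_one] at hx
    omega
  rw [Nat.card_zpowers, hx] at this
  omega

end Cfsg.Agent.U45
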