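import Cfsg.Agent.U45.Defs

/-!
# The principal block for a Sylow subgroup of prime order (larger groups)
-/

set_option autoImplicit false
set_option linter.unusedSectionVars false

namespace Cfsg.Agent.U45

open Finset Subgroup Cfsg.Agent.Char Cfsg.Agent.Block Cfsg.Agent.Zass Cfsg.Agent.Local
  Cfsg.Agent.M11 Cfsg.Agent.Small

def kD (N p X : ℕ) (W : ℕ → Bool) : List ℕ :=
  (List.range 2400).filter fun d => Nat.ble 2 d && (N % d == 0 && ((X == 1 || Nat.ble (2 * p) d) && W d))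

def kV (N c st p : ℕ) (r3 : Bool) (d : ℕ) (m : ℤ) : List ℤ :=
  ((List.range (2 * d / st + 1)).map fun j : ℕ => (d : ℤ) - st * j).filter fun v =>
    Nat.ble (v.natAbs * v.natAbs) c && (Nat.blt v.natAbs d &&
      ((N / c * v.natAbs) % d == 0 && (!r3 || decide ((p * v.natAbs : ℕ) ≤ m))))

def K1 (N p e X : ℕ) (W : ℕ → Bool) (U : List (List ℕ)) : Bool :=
  fL (kD N p X W) fun dl => M12R.B dl (fun d _ => [(d : ℤ)]) N p e (N / (p * X)) (N - 1) fun l r =>
    (X != 1 || r % (p * p) == 0) && !U.any fun D => l.all fun x => D.contains x.1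

def K2 (N p e X c : ℕ) (r3 : Bool) (D : List ℕ) : Bool :=
  fN (if c % p = 0 then 4 * p else 4) fun st =>
    M12R.B D (kV N c st p r3) N p e (N / (p * X)) (c - 1) fun l _ =>
      fI (M12R.xi N l) (M12R.finW p e X c r3)

theorem mem_kD {N p X d : ℕ} {W : ℕ → Bool} (hN : d * d ≤ 5600000) (h2 : 2 ≤ d) (hd : d ∣ N)
    (hX : X = 1 ∨ 2 * p ≤ d) (hW : W d = true) : d ∈ kD N p X W := by
  have : d < 2400 := by nlinarith
  simp [kD, this, h2, Nat.mod_eq_zero_of_dvd hd, hX, hW]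

theorem mem_kV {N c st d p : ℕ} {r3 : Bool} {m v : ℤ} (h0 : 0 < st) (h1 : (st : ℤ) ∣ (d : ℤ) - v)
    (h2 : v.natAbs * v.natAbs ≤ c) (h3 : v.natAbs < d) (h4 : d ∣ N / c * v.natAbs)
    (h5 : r3 = true → ((p * v.natAbs : ℕ) : ℤ) ≤ m) : v ∈ kV N c st p r3 d m := by
  simp only [kV, List.mem_filter, List.mem_map, List.mem_range, Bool.and_eq_true, beq_iff_eq,
    Nat.ble_eq, Nat.blt_eq, Bool.or_eq_true, Bool.not_eq_true', decide_eq_true_eq]
  obtain ⟨j, hj⟩ := h1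
  have h6 : 0 ≤ j := by
    by_contra e
    have : (st : ℤ) * j ≤ 0 := mul_nonpos_of_nonneg_of_nonpos (by omega) (by omega)
    omega
  lift j to ℕ using h6
  refine ⟨⟨j, Nat.lt_succ_of_le ((Nat.le_div_iff_mul_le h0).2 ?_), by omega⟩, h2, h3,
    Nat.mod_eq_zero_of_dvd h4, ?_⟩
  · zify
    rw [mul_comm]
    omega
  cases r3 <;> simp_all

variable {G : Type*} [Group G] [Fintype G] {p : ℕ} [hp : Fact p.Prime] {x : G}
  {h : PP p x} {ψ : AddChar (ZMod p) ℂ} {φ θ : ZMod p → G → ℂ} (H : Phi h ψ φ θ)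
  {a : ZMod p → IrrCharacter G → ℤ} (ha : ∀ k (χ : IrrCharacter G), classInner (θ k) χ = a k χ)
include H ha

theorem stg1 [IsSimpleGroup G] [DecidableEq (IrrCharacter G)] (hna : ¬ IsMulCommutative G)
    (hN : Nat.card G ≤ 5600000) (h80 : p ≤ 80) {W : ℕ → Bool} {U : List (List ℕ)}
    (hW : ∀ χ ∈ TT ⟨1, irr_one⟩ a, W (deg χ.1) = true)
    (hB : K1 (Nat.card G) p (EE p x).card (Nat.card h.npc.compl) W U = false) :
    ∃ D ∈ U, ∀ χ ∈ TT ⟨1, irr_one⟩ a, deg χ.1 ∈ D := by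
  by_contra hL
  have hb := M12R.bd H ha hna h80
  have h1 := sum_TT_le (o := ⟨1, irr_one⟩) (a := a) fun χ => deg χ.1 * deg χ.1
  rw [sum_deg, deg_one] at h1
  rw [K1, fL_eq, ← h.cc_eq, hb.search (v := fun χ => deg χ.1) (fun χ hχ => ?_) (by simp)
    (by simp [deg_one]) hb.deg0 (by simp only [Int.natAbs_natCast]; omega) fun l hl => ?_] at hB
  · cases hB
  · obtain ⟨h2, k, h3⟩ := mem_TT.1 hχ
    have h4 : χ.1 ≠ 1 := fun e => h2 (Subtype.ext e)
    exact mem_kD ((deg_sq_le χ.2).trans hN) (two_le_deg (perfect hna) χ.2 h4) (deg_dvd_card χ.2)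
      (M12R.two_mul_le' H ha hna h3 h4) (hW χ hχ)
  simp only [Bool.and_eq_true, Bool.or_eq_true, bne_iff_ne, beq_iff_eq, Bool.not_eq_true',
    List.any_eq_false, List.all_eq_true, List.contains_iff_mem]
  refine ⟨or_iff_not_imp_left.2 fun hX => ?_, fun D hD e => hL ⟨D, hD, fun χ hχ => ?_⟩⟩
  · rw [not_ne_iff] at hX
    have h2 := sum_add_sum_compl (insert ⟨1, irr_one⟩ (TT ⟨1, irr_one⟩ a))
      fun χ : IrrCharacter G => deg χ.1 * deg χ.1
    rw [sum_deg, sum_insert (by simp [mem_TT]), deg_one] at h2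
    rw [← h2, add_assoc, Nat.mul_one, Nat.add_sub_cancel_left, Nat.add_sub_cancel_left]
    refine Nat.mod_eq_zero_of_dvd (dvd_sum fun χ hχ => ?_)
    simp only [mem_compl, mem_insert, mem_TT, not_or, not_and, not_exists, not_not] at hχ
    have := H.dvd_deg ha hX (hχ.2 hχ.1)
    exact mul_dvd_mul this this
  · refine e (deg χ.1, a 1 χ, deg χ.1) ?_
    rw [← Multiset.mem_coe, hl]
    exact Multiset.mem_map_of_mem _ hχ

theorem stg2 [IsSimpleGroup G] [DecidableEq (IrrCharacter G)] (hna : ¬ IsMulCommutative G)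
    (h80 : p ≤ 80) {s : G} (hs : orderOf s = 2) :
    ∃ r3 : Bool, (s * x * s⁻¹ = x⁻¹ → r3 = true) ∧ ((EE p x).card % 2 = 1 → r3 = false) ∧ ∀ D : List ℕ,
      (∀ χ ∈ TT ⟨1, irr_one⟩ a, deg χ.1 ∈ D) →
      K2 (Nat.card G) p (EE p x).card (Nat.card h.npc.compl) (cc s) r3 D = true := by
  classical
  set J := univ.filter fun u => IsConj s u ∧ u * x * u⁻¹ = x⁻¹ with hJ
  have hodd : (EE p x).card % 2 = 1 → J.card = 0 := fun he => by
    rw [card_eq_zero, filter_eq_empty_iff]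
    rintro u - ⟨h8, h9⟩
    obtain ⟨j', hj'⟩ := H.vd ha hna ((isConj_orderOf h8).symm.trans hs) (r3 := true) fun _ => h9
    exact hj'.r3j rfl (hj'.odd he)
  refine ⟨decide (J.card ≠ 0), fun e => decide_eq_true (card_ne_zero.2
    ⟨s, mem_filter.2 ⟨mem_univ _, IsConj.refl s, e⟩⟩), fun e => by simp [hodd e],
    fun D hD => ?_⟩
  obtain ⟨j, hj⟩ := H.vd ha hna hs (r3 := false) (by simp)
  have hss := mul_self_of_orderOf hs
  have hv := fun χ : IrrCharacter G => iv_spec (perfect hna) χ.2 hss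
  have hb := M12R.bd H ha hna h80
  have h1 := sum_TT_le (o := ⟨1, irr_one⟩) (a := a) fun χ => (iv χ.1 s).natAbs * (iv χ.1 s).natAbs
  rw [hj.sumv, hj.vo] at h1
  rw [K2, fN_eq, ← h.cc_eq, hb.search (v := fun χ => iv χ.1 s) hD (fun χ hχ => ?_)
    hj.vo hj.val0 (by simp only [Int.natAbs_one] at h1; omega) fun l hl => ?_]
  · obtain ⟨h2, k, h3⟩ := mem_TT.1 hχ
    obtain ⟨h4, h5, h6⟩ := hj.row χ h2
    have h7 := single_le_sum (f := fun χ : IrrCharacter G => (iv χ.1 s).natAbs * (iv χ.1 s).natAbs)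
      (fun _ _ => Nat.zero_le _) (mem_univ χ)
    rw [hj.sumv] at h7
    refine mem_kV (by have := hp.out.pos; split_ifs <;> omega) ?_ h7 h5 h6 fun e => ?_
    · split_ifs with e
      · rw [Nat.cast_mul]
        refine IsCoprime.mul_dvd (Nat.isCoprime_iff_coprime.2 ?_) h4
          (M12R.cong h χ.2 (H.inB0 ha h3) hs (Nat.dvd_of_mod_eq_zero e) (hv χ).1)
        exact Nat.Coprime.pow_left 2 ((Nat.coprime_primes Nat.prime_two hp.out).2 h.odd.symm)
      · exact h4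
    obtain ⟨u, hu⟩ := card_ne_zero.1 (of_decide_eq_true e)
    obtain ⟨-, h8, h9⟩ := mem_filter.1 hu
    obtain ⟨j', hj'⟩ := H.vd ha hna ((isConj_orderOf h8).symm.trans hs) (r3 := true) fun _ => h9
    have := hj'.r3b rfl χ k h3
    rwa [iv, ← classFun_of_isConj (irr_isClassFunction χ.2) h8] at this
  have h2 : ∀ {β : Type} (f : Row → β), ((l.map f : List β) : Multiset β) =
      (TT ⟨1, irr_one⟩ a).val.map fun χ => f (deg χ.1, a 1 χ, iv χ.1 s) := fun f => by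
    rw [← Multiset.map_coe, hl, Multiset.map_map]
    rfl
  rw [fI_eq]
  refine M12R.finW_of hp.out.pos Nat.card_pos (cc_pos s) ?_ hodd
  have h1 := H.classSum hss
  rw [classFun_sum_conj_mul (gen_isClassFunction (H.gen 1)), mul_sum, h.cc_eq] at h1
  have h3 : ∀ χ : IrrCharacter G, (Nat.card G : ℂ) * (classInner (θ 1) χ * (χ.1 s * χ.1 s / χ.1 1)) =
      ((a 1 χ * (iv χ.1 s * iv χ.1 s * (Nat.card G / deg χ.1 : ℕ)) : ℤ) : ℂ) := fun χ => by
    have h4 : (deg χ.1 : ℂ) ≠ 0 := Nat.cast_ne_zero.2 (irr_deg_pos χ.2).ne'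
    rw [ha, irr_deg χ.2]
    nth_rw 1 [(hv χ).1]
    nth_rw 1 [(hv χ).1]
    rw [Int.cast_mul, Int.cast_mul, Int.cast_natCast, Nat.cast_div (deg_dvd_card χ.2) h4]
    push_cast
    ring
  simp only [h3] at h1
  have h4 : M12R.xi (Nat.card G) l =
      ∑ χ, a 1 χ * (iv χ.1 s * iv χ.1 s * (Nat.card G / deg χ.1 : ℕ)) := by
    rw [sum_TT (o := ⟨1, irr_one⟩), M12R.xi, ← Multiset.sum_coe, h2, hb.ao 1 one_ne_zero, hj.vo,
      deg_one]
    simp only [mul_assoc, Nat.div_one, one_mul]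
    rfl
  rw [h4, mul_assoc, mul_comm]
  exact_mod_cast h1

end Cfsg.Agent.U45

namespace Cfsg.Agent.U45

open Finset Subgroup Cfsg.Agent.Char Cfsg.Agent.Zass Cfsg.Agent.Local Cfsg.Agent.M11 Cfsg.Agent.Small

variable {G : Type*} [Group G] [Finite G]

/-- The data attached to a Sylow subgroup of odd prime order. -/
structure KD (p e X : ℕ) (x : G) (T : Finset (IrrCharacter G)) : Prop where
  ord : orderOf x = p
  ccx : cc x = p * X
  nrm : Nat.card (normalizer (zpowers x : Set G)) = p * X * e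
  dvd : e ∣ p - 1
  ne : e ≠ 1
  idx : ∃ H : Subgroup G, H ≠ ⊤ ∧ H.index % p = 1 ∧ p * X * e * H.index = Nat.card G
  inv : 2 ∣ e → ¬ 2 ∣ X → ∃ s : G, orderOf s = 2 ∧ s * x * s⁻¹ = x⁻¹
  ne1 : ∀ χ ∈ T, χ.1 ≠ 1
  mem : X = 1 → ∀ χ : IrrCharacter G, χ.1 ≠ 1 → ¬ p ∣ deg χ.1 → χ ∈ T
  st1 : ∀ W U, (∀ χ ∈ T, W (deg χ.1) = true) → K1 (Nat.card G) p e X W U = false →
    ∃ D ∈ U, ∀ χ ∈ T, deg χ.1 ∈ D
  st2 : ∀ s : G, orderOf s = 2 → ∃ r3 : Bool, (s * x * s⁻¹ = x⁻¹ → r3 = true) ∧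
      (e % 2 = 1 → r3 = false) ∧ ∀ D : List ℕ, (∀ χ ∈ T, deg χ.1 ∈ D) →
      K2 (Nat.card G) p e X (cc s) r3 D = true

theorem exists_KD [IsSimpleGroup G] (hna : ¬ IsMulCommutative G) (hN : Nat.card G ≤ 5600000) {p : ℕ}
    (hp : p.Prime) (h2 : p ≠ 2) (h80 : p ≤ 80) (hsq : ¬ p * p ∣ Nat.card G) {x : G}
    (hx : orderOf x = p) : ∃ e X T, KD p e X x T := by
  classical
  have := Fintype.ofFinite G
  have := Fact.mk hp
  have h : PP p x := ⟨h2, hx, hsq⟩
  obtain ⟨ψ, φ, θ, H⟩ := h.exists_phi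
  choose a ha using fun k (χ : IrrCharacter G) =>
    inner_gen_gen (H.gen k) (gen_of_char (irr_isCharacter χ.2))
  obtain ⟨h3, h4, h5, h6⟩ := h.data hna
  have h7 : p * Nat.card h.npc.compl * (EE p x).card * (normalizer (zpowers x : Set G)).index =
      Nat.card G := by rw [← h.cc_eq, h.card_norm, card_mul_index]
  refine ⟨_, _, TT ⟨1, irr_one⟩ a, hx, h.cc_eq, by rw [← h.cc_eq, h.card_norm], h3, h4,
    ⟨_, h6, h5, h7⟩, fun e1 e2 => h.exists_inv e1 fun e3 => ?_,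
    fun χ hχ e => (mem_TT.1 hχ).1 (Subtype.ext e),
    fun hX χ h1 h8 => mem_TT.2 ⟨fun e => h1 (congrArg Subtype.val e), ?_⟩,
    fun W U => stg1 H ha hna hN h80, fun s => stg2 H ha hna h80⟩
  · rw [h.cc_eq, Nat.prime_two.dvd_mul] at e3
    exact e3.elim (fun e => h2 ((Nat.prime_dvd_prime_iff_eq Nat.prime_two hp).1 e).symm) e2
  · by_contra e
    push Not at e
    exact h8 (H.dvd_deg ha hX e)

def kdv (N : ℕ) : List ℕ := (List.range 2400).flatMap fun d => if N % d == 0 then [d, N / d] else []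

theorem mem_kdv {N d : ℕ} (h0 : 0 < N) (hN : N ≤ 5600000) (hd : d ∣ N) : d ∈ kdv N := by
  obtain ⟨k, rfl⟩ := hd
  simp only [kdv, List.mem_flatMap, List.mem_range]
  by_cases h : d < 2400
  · exact ⟨d, h, by simp⟩
  · have hk : 0 < k := Nat.pos_of_mul_pos_left h0
    exact ⟨k, by nlinarith, by simp [hk]⟩

def kcall (N b : ℕ) : List ℕ := (kdv N).filter fun c => c % 4 == 0 && Nat.ble b (N / c)

def kcands (N p b : ℕ) : List (ℕ × ℕ) := (kdv N).flatMap fun n =>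
  if n % p == 1 && Nat.ble b n then ((List.range p).filter fun e =>
    Nat.ble 2 e && ((p - 1) % e == 0 && N % (p * e * n) == 0)).map fun e => (e, N / (p * e * n)) else []

def kcs (N p b e X : ℕ) : List (ℕ × Bool) :=
  ((kcall N b).filter fun c => if X % 2 = 0 then c % p == 0 else
    c % p != 0 && (e % 2 == 0 || N / c % 2 == 1)).flatMap fun c =>
      (if X % 2 = 1 ∧ e % 2 = 0 then [] else [(c, false)]) ++ if e % 2 = 1 then [] else [(c, true)]

def kill2 (N p b e X : ℕ) (D : List ℕ) : Bool := fL D fun D =>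
  (kcs N p b e X).all fun c => fN c.1 fun c1 => !K2 N p e X c1 c.2 D

def killA (N p b : ℕ) (S : List (ℕ × ℕ)) : Bool :=
  (kcands N p b).all fun c => S.contains c || fN c.1 fun e => fN c.2 fun X =>
    !K1 N p e X (fun _ => true) []

variable [IsSimpleGroup G] (hna : ¬ IsMulCommutative G)
include hna

theorem le_idx {b : ℕ} (hb : b.Prime) (h11 : b ∣ Nat.card G) {H : Subgroup G} (hH : H ≠ ⊤) :
    b ≤ H.index :=
  (Nat.Prime.dvd_factorial hb).1 ((h11.mul_left 2).trans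
    (two_mul_card_dvd_factorial (two_lt_card hna) hH))

theorem mem_kcall {b : ℕ} (hb : b.Prime) (hN : Nat.card G ≤ 5600000) (h11 : b ∣ Nat.card G) {s : G}
    (hs : orderOf s = 2) : cc s ∈ kcall (Nat.card G) b := by
  have h1 : s ∉ center G := fun e =>
    ne_one_of_orderOf_eq_prime Nat.prime_two hs (eq_one_of_center hna e)
  have h2 : centralizer ({s} : Set G) ≠ ⊤ := fun e => h1 (mem_center_iff.2 fun g =>
    mem_centralizer_singleton_iff.1 (e ▸ mem_top g))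
  simp only [kcall, List.mem_filter, Bool.and_eq_true, beq_iff_eq, card_div_cc, Nat.ble_eq]
  exact ⟨mem_kdv Nat.card_pos hN (cc_dvd s), Nat.mod_eq_zero_of_dvd (four_dvd_cc (four_dvd hna) hs),
    le_idx hna hb h11 h2⟩

variable {p e X : ℕ} {x : G} {T : Finset (IrrCharacter G)}

theorem KD.mem_cands (h : KD p e X x T) (hp : p.Prime) {b : ℕ} (hb : b.Prime)
    (hN : Nat.card G ≤ 5600000) (h11 : b ∣ Nat.card G) : (e, X) ∈ kcands (Nat.card G) p b := by
  obtain ⟨H, h1, h2, h3⟩ := h.idx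
  have h0 : 0 < Nat.card G := Nat.card_pos
  have h4 : Nat.card G = p * e * H.index * X := by rw [← h3]; ring
  have h5 : 0 < p * e * H.index := Nat.pos_of_mul_pos_right (h4 ▸ h0)
  have h6 : e ≠ 0 := by rintro rfl; simp at h5
  have h7 := h.ne
  have h8 := Nat.le_of_dvd (by have := hp.two_le; omega) h.dvd
  simp only [kcands, List.mem_flatMap]
  refine ⟨H.index, mem_kdv h0 hN H.index_dvd_card, ?_⟩
  rw [if_pos (by simp [h2, le_idx hna hb h11 h1])]
  simp only [List.mem_map, List.mem_filter, List.mem_range, Bool.and_eq_true, Nat.ble_eq, beq_iff_eq]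
  refine ⟨e, ⟨by have := hp.two_le; omega, by omega, Nat.mod_eq_zero_of_dvd h.dvd,
    Nat.mod_eq_zero_of_dvd ⟨X, h4⟩⟩, ?_⟩
  rw [h4, Nat.mul_div_cancel_left _ h5]

theorem KD.mem_of (h : KD p e X x T) (hp : p.Prime) {b : ℕ} (hb : b.Prime)
    (hN : Nat.card G ≤ 5600000) (h11 : b ∣ Nat.card G) {S : List (ℕ × ℕ)}
    (hk : killA (Nat.card G) p b S = true) : (e, X) ∈ S := by
  simp only [killA, List.all_eq_true, Bool.or_eq_true, List.contains_iff_mem, fN_eq,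
    Bool.not_eq_true'] at hk
  refine (hk _ (h.mem_cands hna hp hb hN h11)).resolve_right fun e => ?_
  obtain ⟨D, hD, -⟩ := h.st1 _ _ (fun _ _ => rfl) e
  cases hD

theorem KD.not_kill (h : KD p e X x T) (hp : p.Prime) (h2 : p ≠ 2) (hsq : ¬ p * p ∣ Nat.card G)
    {b : ℕ} (hb : b.Prime) (hN : Nat.card G ≤ 5600000) (h11 : b ∣ Nat.card G) {D : List ℕ}
    (hD : ∀ χ ∈ T, deg χ.1 ∈ D) (hk : kill2 (Nat.card G) p b e X D = true) : False := by
  simp only [kill2, fL_eq, Bool.not_eq_true', List.all_eq_true, fN_eq] at hk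
  obtain ⟨s, hs, h4, h5⟩ : ∃ s : G, orderOf s = 2 ∧ (X % 2 = 1 ∧ e % 2 = 0 → s * x * s⁻¹ = x⁻¹) ∧
      if X % 2 = 0 then cc s % p = 0 else cc s % p ≠ 0 ∧
        (e % 2 = 0 ∨ Nat.card G / cc s % 2 = 1) := by
    have h4 : ∀ s : G, orderOf s = 2 → X % 2 ≠ 0 → cc s % p ≠ 0 := fun s hs e1 e2 => by
      obtain ⟨y, hy, hc⟩ := exists_of_prime_dvd_cc hp (Nat.dvd_of_mod_eq_zero e2)
      have := orderOf_dvd_cc hc.symm
      rw [hs, cc_eq_of_ord hp hsq h.ord hy, h.ccx, Nat.prime_two.dvd_mul] at this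
      exact this.elim (fun e => h2 ((Nat.prime_dvd_prime_iff_eq Nat.prime_two hp).1 e).symm)
        fun e => e1 (Nat.mod_eq_zero_of_dvd e)
    by_cases m1 : X % 2 = 0
    · obtain ⟨s, hs, hc⟩ := exists_of_prime_dvd_cc Nat.prime_two
        (h.ccx ▸ (Nat.dvd_of_mod_eq_zero m1).mul_left p)
      exact ⟨s, hs, by omega, by
        rw [if_pos m1]; exact Nat.mod_eq_zero_of_dvd (h.ord ▸ orderOf_dvd_cc hc.symm)⟩
    by_cases m2 : e % 2 = 0
    · obtain ⟨s, hs, h5⟩ := h.inv (by omega) (by omega)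
      exact ⟨s, hs, fun _ => h5, by rw [if_neg m1]; exact ⟨h4 s hs m1, Or.inl m2⟩⟩
    · obtain ⟨s, hs, h5⟩ := exists_two_central ((by norm_num : 2 ∣ 4).trans (four_dvd hna))
      exact ⟨s, hs, fun e => absurd e.2 m2, by rw [if_neg m1]; exact ⟨h4 s hs m1, Or.inr (by omega)⟩⟩
  obtain ⟨r, r1, r2, r3⟩ := h.st2 s hs
  have := hk (cc s, r) (by
    simp only [kcs, List.mem_flatMap, List.mem_filter, List.mem_append]
    refine ⟨cc s, ⟨mem_kcall hna hb hN h11 hs, by split_ifs at h5 ⊢ <;> simpa using h5⟩, ?_⟩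
    cases r
    · exact Or.inl (by rw [if_neg fun e => by simpa using r1 (h4 e)]; simp)
    · exact Or.inr (by rw [if_neg fun e => by simpa using r2 e]; simp))
  rw [r3 D hD] at this
  cases this

/-- both stages -/
theorem KD.dead (h : KD p e X x T) (hp : p.Prime) {N : ℕ} (hG : Nat.card G = N) {b : ℕ}
    (hb : b.Prime) (hN : p ≠ 2 ∧ ¬ p * p ∣ N ∧ N ≤ 5600000 ∧ b ∣ N) {W : ℕ → Bool}
    (hW : ∀ χ ∈ T, W (deg χ.1) = true) {U : List (List ℕ)} (h1 : K1 N p e X W U = false)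
    (h2 : ∀ D ∈ U, kill2 N p b e X D = true) : False := by
  subst hG
  obtain ⟨D, hD, h3⟩ := h.st1 W U hW h1
  exact h.not_kill hna hp hN.1 hN.2.1 hb hN.2.2.1 hN.2.2.2 h3 (h2 D hD)

end Cfsg.Agent.U45
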