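import Cfsg.Agent.U45.B0

/-!
# Splitting the second stage
-/

set_option autoImplicit false

namespace Cfsg.Agent.U45

open Finset Subgroup Cfsg.Agent.Char Cfsg.Agent.Zass Cfsg.Agent.Local Cfsg.Agent.M11 Cfsg.Agent.Small

def killP (P : ℕ → Bool) (N p b e X : ℕ) (D : List ℕ) : Bool := fL D fun D =>
  (kcs N p b e X).all fun c => fN c.1 fun c1 => P c1 || !K2 N p e X c1 c.2 D

def kAll (N : ℕ) : List ℕ := kD N 0 1 fun _ => true

variable {G : Type*} [Group G] [Finite G] [IsSimpleGroup G] (hna : ¬ IsMulCommutative G)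
  {p e X : ℕ} {x : G} {T : Finset (IrrCharacter G)}
include hna

theorem KD.mem_kAll (h : KD p e X x T) (hN : Nat.card G ≤ 5600000) :
    ∀ χ ∈ T, deg χ.1 ∈ kAll (Nat.card G) := fun χ hχ =>
  mem_kD ((deg_sq_le χ.2).trans hN) (two_le_deg (perfect hna) χ.2 (h.ne1 χ hχ)) (deg_dvd_card χ.2)
    (Or.inl rfl) rfl

omit hna [IsSimpleGroup G] in
theorem KD.not_dvd (h : KD p e X x T) (hp : p.Prime) (h2 : p ≠ 2) (hsq : ¬ p * p ∣ Nat.card G)
    {s : G} (hs : orderOf s = 2) (e1 : X % 2 ≠ 0) : cc s % p ≠ 0 := fun e2 => by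
  obtain ⟨y, hy, hc⟩ := exists_of_prime_dvd_cc hp (Nat.dvd_of_mod_eq_zero e2)
  have := orderOf_dvd_cc hc.symm
  rw [hs, cc_eq_of_ord hp hsq h.ord hy, h.ccx, Nat.prime_two.dvd_mul] at this
  exact this.elim (fun e => h2 ((Nat.prime_dvd_prime_iff_eq Nat.prime_two hp).1 e).symm)
    fun e => e1 (Nat.mod_eq_zero_of_dvd e)

theorem KD.surv (h : KD p e X x T) (hp : p.Prime) {N : ℕ} (hG : Nat.card G = N) {b : ℕ}
    (hb : b.Prime) (hN : p ≠ 2 ∧ ¬ p * p ∣ N ∧ N ≤ 5600000 ∧ b ∣ N) :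
    ∃ s : G, orderOf s = 2 ∧ ∀ P D, (∀ χ ∈ T, deg χ.1 ∈ D) → killP P N p b e X D = true →
      P (cc s) = true := by
  subst hG
  obtain ⟨h2, hsq, hN, h11⟩ := hN
  obtain ⟨s, hs, h4, h5⟩ : ∃ s : G, orderOf s = 2 ∧ (X % 2 = 1 ∧ e % 2 = 0 → s * x * s⁻¹ = x⁻¹) ∧
      if X % 2 = 0 then cc s % p = 0 else cc s % p ≠ 0 ∧
        (e % 2 = 0 ∨ Nat.card G / cc s % 2 = 1) := by
    by_cases m1 : X % 2 = 0
    · obtain ⟨s, hs, hc⟩ := exists_of_prime_dvd_cc Nat.prime_two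
        (h.ccx ▸ (Nat.dvd_of_mod_eq_zero m1).mul_left p)
      exact ⟨s, hs, by omega, by
        rw [if_pos m1]; exact Nat.mod_eq_zero_of_dvd (h.ord ▸ orderOf_dvd_cc hc.symm)⟩
    by_cases m2 : e % 2 = 0
    · obtain ⟨s, hs, h5⟩ := h.inv (by omega) (by omega)
      exact ⟨s, hs, fun _ => h5, by
        rw [if_neg m1]; exact ⟨h.not_dvd hp h2 hsq hs m1, Or.inl m2⟩⟩
    · obtain ⟨s, hs, h5⟩ := exists_two_central ((by norm_num : 2 ∣ 4).trans (four_dvd hna))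
      exact ⟨s, hs, fun e => absurd e.2 m2, by
        rw [if_neg m1]; exact ⟨h.not_dvd hp h2 hsq hs m1, Or.inr (by omega)⟩⟩
  refine ⟨s, hs, fun P D hD hk => ?_⟩
  simp only [killP, fL_eq, Bool.or_eq_true, Bool.not_eq_true', List.all_eq_true, fN_eq] at hk
  obtain ⟨r, r1, r2, r3⟩ := h.st2 s hs
  have := hk (cc s, r) (by
    simp only [kcs, List.mem_flatMap, List.mem_filter, List.mem_append]
    refine ⟨cc s, ⟨mem_kcall hna hb hN h11 hs, by split_ifs at h5 ⊢ <;> simpa using h5⟩, ?_⟩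
    cases r
    · exact Or.inl (by rw [if_neg fun e => by simpa using r1 (h4 e)]; simp)
    · exact Or.inr (by rw [if_neg fun e => by simpa using r2 e]; simp))
  rw [r3 D hD] at this
  simpa using this

def killT (p b : ℕ) (t : ℕ × ℕ × ℕ × List (List ℕ)) : Bool :=
  fN t.1 fun N => fN t.2.1 fun e => fN t.2.2.1 fun X =>
    !K1 N p e X (fun _ => true) t.2.2.2 && t.2.2.2.all (kill2 N p b e X)

theorem KD.deadT (h : KD p e X x T) (hp : p.Prime) {N : ℕ} (hG : Nat.card G = N) {b : ℕ}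
    (hb : b.Prime) (hN : p ≠ 2 ∧ ¬ p * p ∣ N ∧ N ≤ 5600000 ∧ b ∣ N) {U : List (List ℕ)}
    (hk : killT p b (N, e, X, U) = true) : False := by
  simp only [killT, fN_eq, Bool.and_eq_true, Bool.not_eq_true', List.all_eq_true] at hk
  exact h.dead hna hp hG hb hN (fun _ _ => rfl) hk.1 hk.2

end Cfsg.Agent.U45
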